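import Groth.Agent.H8Props.SmoothStrat.GStrat
import Groth.Agent.H8Props.SmoothStrat.Main
import Groth.Agent.H17.Reduced
import Groth.Agent.H7Lim.Approx.OverSystem
import Groth.Agent.H7Lim.Approx.Consequences

/-!
# Stratifications of the base with smooth strata upstairs after finite locally free covers
-/

set_option autoImplicit false
set_option linter.style.haveILetI false
set_option backward.isDefEq.respectTransparency false

universe u

open CategoryTheory CategoryTheory.Limits AlgebraicGeometry TopologicalSpace Opposite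

namespace Groth.Agent.H8Props.SmoothStrat

/-- After a finite locally free cover of `D` the base change of `f` is stratified into smooth pieces. -/
def Covered {X S : Scheme.{u}} (f : X ⟶ S) ⦃D : Scheme.{u}⦄ (d : D ⟶ S) : Prop :=
  ∃ (T : Scheme.{u}) (v : T ⟶ D), Surjective v ∧ Mor2.IsFinLocFree v ∧ Strat (pullback.snd f (v ≫ d))

theorem Covered.baseChange {X S X' S' : Scheme.{u}} {f : X ⟶ S} {f' : X' ⟶ S'} {π : S' ⟶ S}
    {gX : X' ⟶ X} (hf : IsPullback gX f' f π) ⦃D D' : Scheme.{u}⦄ (q : D' ⟶ D) (d' : D' ⟶ S')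
    (d : D ⟶ S) (hq : q ≫ d = d' ≫ π) (h : Covered f d) : Covered f' d' := by
  obtain ⟨T, v, hs, ⟨h1, h2, h3⟩, hstrat⟩ := h
  refine ⟨pullback v q, pullback.snd v q, MorphismProperty.pullback_snd _ _ hs,
    ⟨MorphismProperty.pullback_snd _ _ h1, MorphismProperty.pullback_snd _ _ h2,
      MorphismProperty.pullback_snd _ _ h3⟩, ?_⟩
  let t := pullback.fst v q
  have ht : t ≫ v ≫ d = (pullback.snd v q ≫ d') ≫ π := by
    rw [pullback.condition_assoc, hq, Category.assoc]
  have hbig := (IsPullback.of_hasPullback f' (pullback.snd v q ≫ d')).paste_horiz hf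
  refine hstrat.baseChange (b := t) (p := pullback.lift (pullback.fst f' _ ≫ gX)
    (pullback.snd f' (pullback.snd v q ≫ d') ≫ t)
    (hbig.w.trans ((congrArg (pullback.snd f' _ ≫ ·) ht.symm).trans (Category.assoc _ _ _).symm))) ?_
  refine IsPullback.of_right (h₁₂ := pullback.fst f (v ≫ d)) (h₂₂ := v ≫ d) (v₁₃ := f) ?_
    (pullback.lift_snd _ _ _) (IsPullback.of_hasPullback _ _)
  rw [pullback.lift_fst, ht]
  exact hbig

theorem Covered.of_iso {X S : Scheme.{u}} {f : X ⟶ S} ⦃D D' : Scheme.{u}⦄ (e : D' ≅ D) (d : D ⟶ S)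
    (h : Covered f (e.hom ≫ d)) : Covered f d :=
  h.baseChange (IsPullback.of_horiz_isIso ⟨by simp⟩ : IsPullback (𝟙 X) f f (𝟙 S)) e.inv d _ (by simp)

variable {X S : Scheme.{u}} (f : X ⟶ S) [LocallyOfFinitePresentation f] [QuasiCompact f] [QuasiSeparated f]

/-- One step: a nonempty open piece of a reduced closed subscheme. -/
theorem exists_piece {Z : Scheme.{u}} [IsReduced Z] [Nonempty Z] (a : Z ⟶ S) :
    ∃ (C : Scheme.{u}) (c : C ⟶ Z) (_ : IsClosedImmersion c), IsReduced C ∧ Set.range c ≠ Set.univ ∧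
      Covered f ((compl' c).ι ≫ a) := by
  obtain ⟨η, hη⟩ := exists_genericPoints_specializes (Classical.arbitrary Z)
  obtain ⟨U, V, v, hηU, hs, -, hflf, hstrat⟩ :=
    gen_of_genericPoint (pullback.snd f a) (mem_genericPoints_iff.1 hη.1)
  let Cc : Closeds Z := ⟨(U : Set Z)ᶜ, U.2.isClosed_compl⟩
  let c := (Scheme.IdealSheafData.vanishingIdeal Cc).subschemeι
  have hcr : Set.range c = (U : Set Z)ᶜ := by
    rw [Scheme.IdealSheafData.range_subschemeι, Scheme.IdealSheafData.coe_support_vanishingIdeal]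
    rfl
  refine ⟨_, c, inferInstance, H17.isReduced_vanishingIdeal_subscheme Cc, fun h => ?_, ?_⟩
  · have : η ∈ Set.range c := h ▸ Set.mem_univ η
    rw [hcr] at this
    exact this hηU
  · have hU : compl' c = U := by
      ext x
      show x ∉ Set.range c ↔ _
      rw [hcr, Set.mem_compl_iff, not_not]
    rw [hU]
    refine ⟨V, v, hs, hflf, ?_⟩
    let h1 := IsPullback.of_hasPullback f a
    let h2 := IsPullback.of_hasPullback (pullback.snd f a) (v ≫ U.ι)
    have h3 := h2.paste_horiz h1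
    rw [Category.assoc] at h3
    exact (h3.isoPullback_inv_snd) ▸ hstrat.of_iso h3.isoPullback.inv

theorem strat_base_aux [IsLocallyNoetherian S] [CompactSpace S] (A : Closeds S) :
    ∀ {Z : Scheme.{u}} [IsReduced Z] (a : Z ⟶ S) [IsClosedImmersion a], Set.range a = A →
      GStrat (Covered f) a := by
  haveI : AlgebraicGeometry.IsNoetherian S := {}
  induction A using WellFoundedLT.induction with
  | ind A IH =>
  intro Z _ a _ hA
  rcases isEmpty_or_nonempty Z with hZ | hZ
  · exact .empty a hZ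
  obtain ⟨C, c, hc, hC, hcne, hcov⟩ := exists_piece f a
  haveI := hc
  haveI := hC
  haveI : IsLocallyNoetherian Z := LocallyOfFiniteType.isLocallyNoetherian a
  refine GStrat.cons a (𝟙 Z) c (by simpa using hcov) ?_
  rw [Category.id_comp]
  let A' : Closeds S := ⟨Set.range (c ≫ a), (c ≫ a).isClosedEmbedding.isClosed_range⟩
  refine IH A' ⟨?_, fun hle => hcne (Set.eq_univ_of_forall fun z => ?_)⟩ (c ≫ a) rfl
  · rintro _ ⟨z, rfl⟩
    exact hA.le ⟨_, rfl⟩
  · obtain ⟨y, hy⟩ := hle (hA.le ⟨z, rfl⟩ : a z ∈ (A : Set S))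
    exact ⟨y, a.isClosedEmbedding.injective hy⟩

theorem strat_base [IsLocallyNoetherian S] [CompactSpace S] : GStrat (Covered f) (𝟙 S) := by
  rcases isEmpty_or_nonempty S with hS | hS
  · exact .empty _ hS
  let i := S.nilradical.subschemeι
  haveI : IsReduced S.nilradical.subscheme := isReduced_nilradical_subscheme _
  haveI : Surjective i := ⟨fun x => by
    have : x ∈ Set.range i := by rw [Scheme.IdealSheafData.range_subschemeι]; trivial
    exact this⟩
  haveI : Nonempty S.nilradical.subscheme := ⟨(i.surjective (Classical.arbitrary S)).choose⟩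
  obtain ⟨C, c, hc, hC, -, hcov⟩ := exists_piece f i
  haveI := hc
  haveI := hC
  haveI : IsLocallyNoetherian S.nilradical.subscheme := LocallyOfFiniteType.isLocallyNoetherian i
  refine GStrat.cons (𝟙 S) i c (by simpa using hcov) ?_
  rw [Category.comp_id]
  exact strat_base_aux f ⟨Set.range (c ≫ i), (c ≫ i).isClosedEmbedding.isClosed_range⟩ (c ≫ i) rfl

/-- The stratification of `S`, without Noetherian hypotheses. -/
theorem exists_stratification [CompactSpace S] [QuasiSeparatedSpace S] :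
    GStrat (Covered f) (𝟙 S) := by
  obtain ⟨I, _, _, _, D, c, hc, hfin, haff, ⟨e⟩⟩ := H7Lim.Approx.exists_fp_system (H7Lim.Approx.toZ S)
  obtain ⟨hc'⟩ := H7Lim.Approx.nonempty_isLimit_forget hc
  haveI : ∀ (i j : Iᵒᵖ) (a : i ⟶ j), IsAffineHom ((D ⋙ Over.forget _).map a) := haff
  haveI : ∀ i, CompactSpace ((D ⋙ Over.forget _).obj i) := fun i => (hfin i).2.2.2.1
  haveI : ∀ i, QuasiSeparatedSpace ((D ⋙ Over.forget _).obj i) := fun i => (hfin i).2.2.2.2
  haveI : IsIso e.inv.left := inferInstanceAs (IsIso ((Over.forget _).map e.inv))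
  let e' : S ⟶ ((Over.forget _).mapCone c).pt := e.inv.left
  haveI : IsIso e' := ‹_›
  obtain ⟨i, ⟨M⟩⟩ := H7Lim.FPDescent.exists_model hc' (f ≫ e')
  haveI := M.lfp
  haveI := M.qc
  haveI := M.qs
  let Si := (D ⋙ Over.forget _).obj i
  haveI : IsLocallyNoetherian Si := by
    haveI : LocallyOfFinitePresentation (D.obj i).hom := (hfin i).1
    haveI : IsNoetherianRing (CommRingCat.of (ULift.{u} ℤ)) :=
      H7Lim.Approx.isNoetherianRing_ulift_int
    exact LocallyOfFiniteType.isLocallyNoetherian (D.obj i).hom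
  let π : S ⟶ Si := e' ≫ ((Over.forget _).mapCone c).π.app i
  have h0 : IsPullback (𝟙 X) f (f ≫ e') e' :=
    IsPullback.of_horiz_isIso ⟨Category.id_comp _⟩
  have hf : IsPullback (𝟙 X ≫ M.g) f M.p π := h0.paste_horiz M.hpb
  exact (strat_base M.p).baseChange (P' := Covered f) (b := π)
    (fun _ _ q d' d hq h => h.baseChange hf q d' d hq.w) (p := π) (g' := 𝟙 S)
    (IsPullback.of_vert_isIso ⟨by simp⟩)

theorem main_global [CompactSpace S] [QuasiSeparatedSpace S] :
    ∃ (t : ℕ) (I : Fin (t + 1) → S.IdealSheafData), Monotone I ∧ I (Fin.last t) = ⊤ ∧ ((I 0).support : Set ↑S) = Set.univ ∧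
      (∀ i, ∀ U : S.affineOpens, ((I i).ideal U).FG) ∧
      ∀ i : Fin t, ∃ (T : Scheme.{u}) (v : T ⟶ ↑((I i.castSucc).subschemeι ⁻¹ᵁ (I i.succ).support.compl)),
        Surjective v ∧ Mor2.IsFinLocFree v ∧
        ∃ (t' : ℕ) (J : Fin (t' + 1) → (pullback f (v ≫ ((I i.castSucc).subschemeι ⁻¹ᵁ (I i.succ).support.compl).ι ≫ (I i.castSucc).subschemeι)).IdealSheafData),
          Monotone J ∧ J (Fin.last t') = ⊤ ∧ ((J 0).support : Set ↑(pullback f (v ≫ ((I i.castSucc).subschemeι ⁻¹ᵁ (I i.succ).support.compl).ι ≫ (I i.castSucc).subschemeι))) = Set.univ ∧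
          (∀ j, ∀ O : (pullback f (v ≫ ((I i.castSucc).subschemeι ⁻¹ᵁ (I i.succ).support.compl).ι ≫ (I i.castSucc).subschemeι)).affineOpens, ((J j).ideal O).FG) ∧
          ∀ j : Fin t', Smooth (((J j.castSucc).subschemeι ⁻¹ᵁ (J j.succ).support.compl).ι ≫ (J j.castSucc).subschemeι ≫ pullback.snd f (v ≫ ((I i.castSucc).subschemeι ⁻¹ᵁ (I i.succ).support.compl).ι ≫ (I i.castSucc).subschemeι)) := by
  obtain ⟨t, I, h1, h2, h3, h4, h5⟩ :=
    (exists_stratification f).exists_ideals (fun _ _ e d h => h.of_iso e d)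
  refine ⟨t, I, h1, h2, h3, h4, fun i => ?_⟩
  obtain ⟨T, v, hs, hflf, hstrat⟩ : Covered f (((I i.castSucc).subschemeι ⁻¹ᵁ
      (I i.succ).support.compl).ι ≫ (I i.castSucc).subschemeι) := by
    have := h5 i
    rwa [Category.comp_id] at this
  exact ⟨T, v, hs, hflf, hstrat.exists_ideals⟩

end Groth.Agent.H8Props.SmoothStrat
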